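import Cfsg.Agent.Lib.Helper28.Fi22Ord.C16.ChkDefs

set_option autoImplicit false
set_option linter.unusedVariables false
set_option Elab.async false

namespace Cfsg.Agent.Lib.Helper28.Fi22Ord.C16

open Cfsg.Agent.Lib.Helper28.Fi22Sub.P5 (Gen)
open Cfsg.Agent.Lib.Helper28.TC

noncomputable section

theorem closedP_blk0 : allRange (guard nn closedP) 4 (0 * 2 ^ 4) = true := by decide +kernel
theorem closedP_f0 : ∀ k, 0 ≤ k → k < 1 → allRange (guard nn closedP) 4 (k * 2 ^ 4) = true := by
  intro k h1 h2
  interval_cases k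
  · exact closedP_blk0

end

end Cfsg.Agent.Lib.Helper28.Fi22Ord.C16
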