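import Cfsg.Agent.Lib.Helper28.TCCheck
import Cfsg.Agent.Lib.Helper28.Fi22Ord.Sub

set_option autoImplicit false
set_option linter.unusedVariables false

namespace Cfsg.Agent.Lib.Helper28.Fi22Ord.C16

open Cfsg.Agent.Lib.Helper28.Fi22Sub.P5 (Gen)
open Cfsg.Agent.Lib.Helper28.TC

noncomputable section

def hotA_c0 : ℕ := 0x0
def hotA : ℕ := hotA_c0
def coldA_c0 : ℕ := 0x0
def coldA : ℕ := coldA_c0
def treeT_c0 : ℕ := 0x7839c2d6a2d8895925487499d0653894c64290c84218084210a00000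
def treeT : ℕ := treeT_c0
def rowT_c0 : ℕ := 0x7b9ac5a928398a418820
def rowT : ℕ := rowT_c0

end

end Cfsg.Agent.Lib.Helper28.Fi22Ord.C16
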