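import Cfsg.Agent.Lib.Helper28.TCCheck
import Cfsg.Agent.Lib.Helper28.Fi22Ord.Sub

set_option autoImplicit false
set_option linter.unusedVariables false

namespace Cfsg.Agent.Lib.Helper28.Fi22Ord.C16

open Cfsg.Agent.Lib.Helper28.Fi22Sub.P5 (Gen)
open Cfsg.Agent.Lib.Helper28.TC

noncomputable section

def hotE0_c0 : ℕ := 0x98f97084e78d6ec64b5aa5074684e93453261e31c40e2021
def hotE0 : ℕ := hotE0_c0
def coldE0_c0 : ℕ := 0x3a000005818f4818f4818b3818f381930001a2018720193000121018b0000a000000018f000e7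
def coldE0 : ℕ := coldE0_c0
def tfT0_c0 : ℕ := 0x73dac5a9263a08510c20
def tfT0 : ℕ := tfT0_c0

end

end Cfsg.Agent.Lib.Helper28.Fi22Ord.C16
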