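import Cfsg.Agent.Lib.Helper28.TCCheck
import Cfsg.Agent.Lib.Helper28.Fi22Ord.Sub

set_option autoImplicit false
set_option linter.unusedVariables false

namespace Cfsg.Agent.Lib.Helper28.Fi22Ord.C16

open Cfsg.Agent.Lib.Helper28.Fi22Sub.P5 (Gen)
open Cfsg.Agent.Lib.Helper28.TC

noncomputable section

def hotE1_c0 : ℕ := 0x9b08ee8cf7ad70c66b5e95ca4463c74282a5204162143041
def hotE1 : ℕ := hotE1_c0
def coldE1_c0 : ℕ := 0x701070003600000401a34019f281a300022281a700016201a7000000819f101070000600000000eb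
def coldE1 : ℕ := coldE1_c0
def tfT1_c0 : ℕ := 0x7b5cc5a909298e418440
def tfT1 : ℕ := tfT1_c0

end

end Cfsg.Agent.Lib.Helper28.Fi22Ord.C16
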