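import Cfsg.Agent.Lib.Helper28.TCCheck
import Cfsg.Agent.Lib.Helper28.Fi22Ord.Sub

set_option autoImplicit false
set_option linter.unusedVariables false

namespace Cfsg.Agent.Lib.Helper28.Fi22Ord.C16

open Cfsg.Agent.Lib.Helper28.Fi22Sub.P5 (Gen)
open Cfsg.Agent.Lib.Helper28.TC

noncomputable section

def hotE2_c0 : ℕ := 0x9d090f88d86e6ca68b6ac5294883e73042832e6265102061
def hotE2 : ℕ := hotE2_c0
def coldE2_c0 : ℕ := 0x7010b6811f00032481b700026381b700000181bb2811f101bb0000e0000a0000000000001b7000ef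
def coldE2 : ℕ := coldE2_c0
def tfT2_c0 : ℕ := 0x7b98d4a9683986229020
def tfT2 : ℕ := tfT2_c0

end

end Cfsg.Agent.Lib.Helper28.Fi22Ord.C16
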