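import Cfsg.Agent.Lib.Helper28.TCCheck
import Cfsg.Agent.Lib.Helper28.Fi22Ord.Sub

set_option autoImplicit false
set_option linter.unusedVariables false

namespace Cfsg.Agent.Lib.Helper28.Fi22Ord.C16

open Cfsg.Agent.Lib.Helper28.Fi22Sub.P5 (Gen)
open Cfsg.Agent.Lib.Helper28.TC

noncomputable section

def hotE3_c0 : ℕ := 0xa1094f8ae7eb72c7cd5884c656a3a54a93872441a3122081
def hotE3 : ℕ := hotE3_c0
def coldE3_c0 : ℕ := 0x70113681275814f0002a4813b4814f0001e000160000000012000000000010113081270014f000f3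
def coldE3 : ℕ := coldE3_c0
def tfT3_c0 : ℕ := 0x7b9aa5b0e54910618820
def tfT3 : ℕ := tfT3_c0

end

end Cfsg.Agent.Lib.Helper28.Fi22Ord.C16
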