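import Cfsg.Agent.Lib.Helper28.TCCheck
import Cfsg.Agent.Lib.Helper28.Fi22Ord.Sub

set_option autoImplicit false
set_option linter.unusedVariables false

namespace Cfsg.Agent.Lib.Helper28.Fi22Ord.C16

open Cfsg.Agent.Lib.Helper28.Fi22Sub.P5 (Gen)
open Cfsg.Agent.Lib.Helper28.TC

noncomputable section

def hotE4_c0 : ℕ := 0x9f092f82c76a80e62874d54960b4073662c52241830c10a2
def hotE4 : ℕ := hotE4_c0
def coldE4_c0 : ℕ := 0x7010f681230002e00026000000001e00000281cf00000201cf18137101371010f081230000200000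
def coldE4 : ℕ := coldE4_c0
def tfT4_c0 : ℕ := 0x7b96969d88518a418801
def tfT4 : ℕ := tfT4_c0

end

end Cfsg.Agent.Lib.Helper28.Fi22Ord.C16
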