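import Cfsg.Agent.Lib.Helper28.Fi22Ord.C16.DataE0
import Cfsg.Agent.Lib.Helper28.Fi22Ord.C16.DataE1
import Cfsg.Agent.Lib.Helper28.Fi22Ord.C16.DataE2
import Cfsg.Agent.Lib.Helper28.Fi22Ord.C16.DataE3
import Cfsg.Agent.Lib.Helper28.Fi22Ord.C16.DataE4
import Cfsg.Agent.Lib.Helper28.Fi22Ord.C16.DataA

set_option autoImplicit false
set_option linter.unusedVariables false

namespace Cfsg.Agent.Lib.Helper28.Fi22Ord.C16

open Cfsg.Agent.Lib.Helper28.Fi22Sub.P5 (Gen)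
open Cfsg.Agent.Lib.Helper28.TC

noncomputable section

/-- the generators -/
def gens : List Gen := [Gen.c, Gen.d, Gen.e, Gen.f, Gen.h]

theorem mem_gens (x : Gen) : x ∈ gens := by cases x <;> decide

/-- decode a generator -/
def genOf (c : ℕ) : Gen := Nat.rec (motive := fun _ => Gen) Gen.c (fun c _ => Nat.rec (motive := fun _ => Gen) Gen.d (fun c _ => Nat.rec (motive := fun _ => Gen) Gen.e (fun c _ => Nat.rec (motive := fun _ => Gen) Gen.f (fun c _ => Gen.h) c) c) c) c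

def hotE (x : Gen) : ℕ := Gen.rec (motive := fun _ => ℕ) hotE0 hotE1 hotE2 hotE3 hotE4 x
def coldE (x : Gen) : ℕ := Gen.rec (motive := fun _ => ℕ) coldE0 coldE1 coldE2 coldE3 coldE4 x
def tfT (x : Gen) : ℕ := Gen.rec (motive := fun _ => ℕ) tfT0 tfT1 tfT2 tfT3 tfT4 x

def entH (x : Gen) (u : ℕ) : ℕ := look (hotE x) 12 4095 u
def jEc (x : Gen) (u : ℕ) : ℕ := look (coldE x) 20 1048575 u
def alH (k : ℕ) : ℕ := look hotA 12 4095 k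
def jAc (k : ℕ) : ℕ := look coldA 44 17592186044415 k
def treeE (k : ℕ) : ℕ := look treeT 14 16383 k
/-- the final coset table -/
def tf (x : Gen) (i : ℕ) : ℕ := look (tfT x) 5 31 i
/-- the final coset number of a row -/
def fin (k : ℕ) : ℕ := Nat.shiftRight (treeE k) 9
/-- the designated row of a final coset -/
def rowOf (i : ℕ) : ℕ := look rowT 5 31 i

/-- the cycle words with their reverses and lengths -/
def cycs : List (List Gen × List Gen × ℕ) := [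
  ([Gen.c, Gen.c], [Gen.c, Gen.c], 2),
  ([Gen.c, Gen.d, Gen.c, Gen.d, Gen.c, Gen.d], [Gen.d, Gen.c, Gen.d, Gen.c, Gen.d, Gen.c], 6),
  ([Gen.c, Gen.e, Gen.c, Gen.e], [Gen.e, Gen.c, Gen.e, Gen.c], 4),
  ([Gen.c, Gen.h, Gen.c, Gen.h], [Gen.h, Gen.c, Gen.h, Gen.c], 4),
  ([Gen.c, Gen.f, Gen.c, Gen.f], [Gen.f, Gen.c, Gen.f, Gen.c], 4),
  ([Gen.d, Gen.c, Gen.d, Gen.c, Gen.d, Gen.c], [Gen.c, Gen.d, Gen.c, Gen.d, Gen.c, Gen.d], 6),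
  ([Gen.d, Gen.d], [Gen.d, Gen.d], 2),
  ([Gen.d, Gen.e, Gen.d, Gen.e, Gen.d, Gen.e], [Gen.e, Gen.d, Gen.e, Gen.d, Gen.e, Gen.d], 6),
  ([Gen.d, Gen.h, Gen.d, Gen.h, Gen.d, Gen.h], [Gen.h, Gen.d, Gen.h, Gen.d, Gen.h, Gen.d], 6),
  ([Gen.d, Gen.f, Gen.d, Gen.f], [Gen.f, Gen.d, Gen.f, Gen.d], 4),
  ([Gen.e, Gen.c, Gen.e, Gen.c], [Gen.c, Gen.e, Gen.c, Gen.e], 4),
  ([Gen.e, Gen.d, Gen.e, Gen.d, Gen.e, Gen.d], [Gen.d, Gen.e, Gen.d, Gen.e, Gen.d, Gen.e], 6),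
  ([Gen.e, Gen.e], [Gen.e, Gen.e], 2),
  ([Gen.e, Gen.h, Gen.e, Gen.h], [Gen.h, Gen.e, Gen.h, Gen.e], 4),
  ([Gen.e, Gen.f, Gen.e, Gen.f, Gen.e, Gen.f], [Gen.f, Gen.e, Gen.f, Gen.e, Gen.f, Gen.e], 6),
  ([Gen.h, Gen.c, Gen.h, Gen.c], [Gen.c, Gen.h, Gen.c, Gen.h], 4),
  ([Gen.h, Gen.d, Gen.h, Gen.d, Gen.h, Gen.d], [Gen.d, Gen.h, Gen.d, Gen.h, Gen.d, Gen.h], 6),
  ([Gen.h, Gen.e, Gen.h, Gen.e], [Gen.e, Gen.h, Gen.e, Gen.h], 4),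
  ([Gen.h, Gen.h], [Gen.h, Gen.h], 2),
  ([Gen.h, Gen.f, Gen.h, Gen.f], [Gen.f, Gen.h, Gen.f, Gen.h], 4),
  ([Gen.f, Gen.c, Gen.f, Gen.c], [Gen.c, Gen.f, Gen.c, Gen.f], 4),
  ([Gen.f, Gen.d, Gen.f, Gen.d], [Gen.d, Gen.f, Gen.d, Gen.f], 4),
  ([Gen.f, Gen.e, Gen.f, Gen.e, Gen.f, Gen.e], [Gen.e, Gen.f, Gen.e, Gen.f, Gen.e, Gen.f], 6),
  ([Gen.f, Gen.h, Gen.f, Gen.h], [Gen.h, Gen.f, Gen.h, Gen.f], 4),
  ([Gen.f, Gen.f], [Gen.f, Gen.f], 2),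
  ([Gen.c], [Gen.c], 1),
  ([Gen.d], [Gen.d], 1),
  ([Gen.e], [Gen.e], 1),
  ([Gen.f], [Gen.f], 1)]

/-- the relator words -/
def relWords : List (List Gen) := [
  [Gen.c, Gen.c],
  [Gen.c, Gen.d, Gen.c, Gen.d, Gen.c, Gen.d],
  [Gen.c, Gen.e, Gen.c, Gen.e],
  [Gen.c, Gen.h, Gen.c, Gen.h],
  [Gen.c, Gen.f, Gen.c, Gen.f],
  [Gen.d, Gen.c, Gen.d, Gen.c, Gen.d, Gen.c],
  [Gen.d, Gen.d],
  [Gen.d, Gen.e, Gen.d, Gen.e, Gen.d, Gen.e],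
  [Gen.d, Gen.h, Gen.d, Gen.h, Gen.d, Gen.h],
  [Gen.d, Gen.f, Gen.d, Gen.f],
  [Gen.e, Gen.c, Gen.e, Gen.c],
  [Gen.e, Gen.d, Gen.e, Gen.d, Gen.e, Gen.d],
  [Gen.e, Gen.e],
  [Gen.e, Gen.h, Gen.e, Gen.h],
  [Gen.e, Gen.f, Gen.e, Gen.f, Gen.e, Gen.f],
  [Gen.h, Gen.c, Gen.h, Gen.c],
  [Gen.h, Gen.d, Gen.h, Gen.d, Gen.h, Gen.d],
  [Gen.h, Gen.e, Gen.h, Gen.e],
  [Gen.h, Gen.h],
  [Gen.h, Gen.f, Gen.h, Gen.f],
  [Gen.f, Gen.c, Gen.f, Gen.c],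
  [Gen.f, Gen.d, Gen.f, Gen.d],
  [Gen.f, Gen.e, Gen.f, Gen.e, Gen.f, Gen.e],
  [Gen.f, Gen.h, Gen.f, Gen.h],
  [Gen.f, Gen.f]]

/-- the subgroup generator words -/
def subWords : List (List Gen) := [
  [Gen.c],
  [Gen.d],
  [Gen.e],
  [Gen.f]]

/-- expressions of the further relators -/
def extraE : List (WE Gen) := [
  ]

/-- expressions of the subgroup generators -/
def subE : List (WE Gen) := [
  (WE.of Gen.c),
  (WE.of Gen.d),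
  (WE.of Gen.e),
  (WE.of Gen.f)]

/-- the certificate -/
def C : Cert Gen where
  par := fun k => Nat.land (treeE k) 31
  gn := fun k => genOf (Nat.land (Nat.shiftRight (treeE k) 5) 15)
  ent := fun x u => Nat.land (entH x u) 31
  rkE := fun x u => Nat.shiftRight (entH x u) 5
  jEk := fun x u => Nat.land (jEc x u) 3
  jEa := fun x u => Nat.land (Nat.shiftRight (jEc x u) 2) 31
  jEp := fun x u => Nat.land (Nat.shiftRight (jEc x u) 7) 255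
  jEz := fun x u => Nat.shiftRight (jEc x u) 15
  al := fun k => Nat.land (alH k) 31
  rkA := fun k => Nat.shiftRight (alH k) 5
  jAx := fun k => genOf (Nat.land (jAc k) 15)
  jA1k := fun k => Nat.land (Nat.shiftRight (jAc k) 4) 3
  jA1a := fun k => Nat.land (Nat.shiftRight (jAc k) 6) 31
  jA1p := fun k => Nat.land (Nat.shiftRight (jAc k) 11) 255
  jA1z := fun k => Nat.land (Nat.shiftRight (jAc k) 19) 31
  jA2k := fun k => Nat.land (Nat.shiftRight (jAc k) 24) 3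
  jA2a := fun k => Nat.land (Nat.shiftRight (jAc k) 26) 31
  jA2p := fun k => Nat.land (Nat.shiftRight (jAc k) 31) 255
  jA2z := fun k => Nat.land (Nat.shiftRight (jAc k) 39) 31
  cycW := fun ci => (nthD cycs ci ([], [], 0)).1
  cycR := fun ci => (nthD cycs ci ([], [], 0)).2.1
  cycL := fun ci => (nthD cycs ci ([], [], 0)).2.2
  cycA := fun ci => Nat.ble 25 ci
  fuel := 2

def NN : ℕ := 16
def nn : ℕ := 16
def RR : ℕ := 81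


end

end Cfsg.Agent.Lib.Helper28.Fi22Ord.C16
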